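import Groth.Agent.Lift.K695.ClFib
import Groth.Agent.Sga2lef.H96.ModSysFormal
import Groth.Agent.Sga2lef.H81.LocFreeNhd
import Groth.Agent.Sga2lef.H78.LeffPic
import Groth.Agent.Sga2lef.H77.PicRes
import Groth.Agent.S0004
import Groth.Agent.Pic13.H126.ThickFF

/-!
# `Pic X = lim Pic X_n` for a proper scheme over a complete local ring: existence and injectivity

`f : X ⟶ Spec A` proper, `A` complete Noetherian local, `J = m O_X`, `X_n = V(J^(n+1))`.

* `exists_invertible`: a levelwise invertible system on the completion is algebraizable by an invertible module;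
* `nonempty_iso_of_forall`: an invertible module whose restrictions to all the `X_n` are trivial is trivial.
-/

set_option autoImplicit false
universe u
open CategoryTheory CategoryTheory.Limits AlgebraicGeometry Opposite TopologicalSpace

namespace K184.AlgPic

open Groth.Agent.FormalB.ModPowAff Groth.Agent.Fdesc.LocGen Groth.Agent.Sga2.LefThick K695.ClFib
  Groth.Agent.Sga2lef.H96.ModSysFormal Groth.Agent.Sga2lef.H96.ModSysPush Groth.Agent.Sga2lef.H96.ModSysRec
  Groth.Agent.Sga2lef.H78 Groth.Agent.Sga2lef.H81 Groth.Agent.Picfga.LineFam Groth.Agent.FormalB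
  Groth.Agent.FormalB.ModPow Groth.Agent.Pic13.H126.ThickLift Groth.Agent.Pic13.H126.D2FF
  Groth.Agent.Pic13.H126.ThickFF

/-- Levelwise invertible systems are algebraizable by invertible modules. -/
theorem exists_invertible (A : Type u) [CommRing A] [IsLocalRing A] [IsNoetherianRing A]
    [IsAdicComplete (IsLocalRing.maximalIdeal A) A]
    {X : Scheme.{u}} (f : X ⟶ Spec (CommRingCat.of A)) [IsProper f]
    (𝔐 : FSch.ModSys (FSch.completionAlong X (ideal₀ A f))) (hinv : ∀ n, PicF.IsInvertible (𝔐.F n)) :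
    ∃ M : X.Modules, PicF.IsInvertible M ∧ ∀ n : ℕ,
      Nonempty ((Scheme.Modules.pullback (tι (ideal₀ A f) n)).obj M ≅ 𝔐.F n) := by
  let _ : X.Over (Spec (CommRingCat.of A)) := ⟨f⟩
  have _ : IsProper (X ↘ Spec (CommRingCat.of A)) := inferInstanceAs (IsProper f)
  have _ : IsLocallyNoetherian X := LocallyOfFiniteType.isLocallyNoetherian f
  let J := ideal₀ A f
  have hJ : ∀ U : X.affineOpens, J.ideal U = (IsLocalRing.maximalIdeal A).map (toΓ A X U.1) :=
    fun U => ideal_ideal₀ A f U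
  have hgb : IsGenBy (IsLocalRing.maximalIdeal A) J := fun U => hJ U
  have hk : (tι J 0).ker = (ι₀ A f).ker := by
    rw [Scheme.IdealSheafData.ker_subschemeι, zero_add, pow_one]
  have hcoh : 𝔐.IsCoh := fun n => Groth.Agent.Pic13.H126.ThickFF.isCoh_of_isInvertible (hinv n)
  obtain ⟨M, hM, hM'⟩ := (Groth.Agent.S0004.result A (IsLocalRing.maximalIdeal A) X).2 (toSys 𝔐)
    (isCohFormal_toSys hgb 𝔐 hcoh)
  obtain ⟨E⟩ := nonempty_iso hgb 𝔐 M hM.1 hM'
  have eM : ∀ n : ℕ, Nonempty ((Scheme.Modules.pullback (FSch.completionToX X J n)).obj M ≅ 𝔐.F n) := fun n =>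
    ⟨{ hom := E.hom.app n
       inv := E.inv.app n
       hom_inv_id := congrArg (fun f => FSch.ModSys.Hom.app f n) E.hom_inv_id
       inv_hom_id := congrArg (fun f => FSch.ModSys.Hom.app f n) E.inv_hom_id }⟩
  have hinv' : ∀ n : ℕ, PicF.IsInvertible ((Scheme.Modules.pullback (FSch.completionToX X J n)).obj M) := fun n =>
    LeffPic.isInvertible_of_iso (eM n).some.symm (hinv n)
  obtain ⟨U, hU, hfree, -⟩ := LocFreeNhd.exists_locFree_nhd J M hM fun n =>
    LeffPic.isFinLocFree_of_isInvertible (hinv' n)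
  -- local generators near the closed fibre
  let W : X.Opens := sSup {V : X.Opens | ∃ s : Γ(M, V), IsGen s}
  have hW : ∀ x, x ∈ W ↔ ∃ (V : X.Opens) (s : Γ(M, V)), x ∈ V ∧ IsGen s := by
    intro x
    simp only [W, TopologicalSpace.Opens.mem_sSup, Set.mem_ofPred_eq]
    exact ⟨fun ⟨V, ⟨s, hs⟩, hx⟩ => ⟨V, s, hx, hs⟩, fun ⟨V, s, hx, hs⟩ => ⟨V, ⟨s, hs⟩, hx⟩⟩
  have htop : W = ⊤ := by
    refine eq_top_of_closedFibre A f fun z => ?_
    rw [hW]
    obtain ⟨z', hz'⟩ : ∃ z', (FSch.completionToX X J 0) z' = ι₀ A f z := by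
      refine ⟨(IsClosedImmersion.lift (tι J 0) (ι₀ A f) hk.le) z, ?_⟩
      change (tι J 0) _ = _
      rw [← Scheme.Hom.comp_apply, IsClosedImmersion.lift_fac]
    have hx : ι₀ A f z ∈ (J.support : Set X) := by
      have h1 : ι₀ A f z ∈ Set.range (tι J 0) := ⟨z', hz'⟩
      rw [Scheme.IdealSheafData.range_subschemeι, Scheme.IdealSheafData.support_pow_succ] at h1
      exact h1
    obtain ⟨V, r, hxV, ⟨eV⟩⟩ := hfree ⟨ι₀ A f z, hU hx⟩
    have h2 := RankOne.exists_gen (V.ι ≫ U.ι) (M := M) (n := r)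
      ((Scheme.Modules.restrictFunctorComp V.ι U.ι).app M ≪≫ eV) (FSch.completionToX X J 0)
      (hinv' 0) z' (by rw [hz']; exact ⟨⟨_, hxV⟩, rfl⟩)
    rw [hz'] at h2
    exact h2
  have hMinv : PicF.IsInvertible M := by
    rw [isInvertible_iff]
    intro x
    obtain ⟨V, s, hx, hs⟩ := (hW x).1 (by rw [htop]; trivial)
    exact ⟨V, s, hx, hs⟩
  exact ⟨M, hMinv, eM⟩

section Section

variable {A : Type u} [CommRing A] [IsNoetherianRing A] {X : Scheme.{u}}
  [X.Over (Spec (CommRingCat.of A))] [IsProper (X ↘ Spec (CommRingCat.of A))]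

/-- There is a level `c` such that every section of `L` over `V(J^(c+1))` agrees on `V(J)` with a global section of
`L` (in the sense of local lifts). -/
theorem exists_section_of_level (I : Ideal A) (J : X.IdealSheafData)
    (hJ : ∀ U : X.affineOpens, J.ideal U = I.map (toΓ A X U.1)) {L : X.Modules} (hL : PicF.IsInvertible L) :
    ∃ c : ℕ, ∀ sc : Γ(N J L c, ⊤), ∃ σ : Γ(L, ⊤), ∀ x : X, ∃ (U : X.Opens) (b : Γ(L, U)), x ∈ U ∧
      (can J L c).map b = res _ le_top sc ∧
      (can J L 0).map b = res _ ((tι J 0).preimage_mono (le_top : U ≤ ⊤)) ((can J L 0).map σ) := by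
  have hcoh : Coh.IsCoh L := isCoh_of_isInvertible hL
  obtain ⟨c, hc⟩ := exists_section_lift I hcoh
  have hmod : ∀ m, IsModPow (I ^ (m + 1))
      ((Scheme.Modules.pullbackPushforwardAdjunction (tι J m)).unit.app L) := by
    intro m
    refine isModPow_unit (fun U hU => ?_) hL
    have h1 := (J ^ (m + 1)).ker_subschemeι_app ⟨U, hU⟩
    refine h1.trans ?_
    rw [Scheme.IdealSheafData.ideal_pow, Pi.pow_apply, hJ ⟨U, hU⟩, Ideal.map_pow]
  choose e he he' using fun m => (isModPow_modPowπ I (m + 1) L).exists_iso (hmod m)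
  refine ⟨c, fun sc => ?_⟩
  obtain ⟨σ, hσ⟩ := hc ((e c).inv.app ⊤ sc)
  refine ⟨σ, ?_⟩
  intro x
  obtain ⟨_, ⟨U, hU, rfl⟩, hxU, -⟩ :=
    X.isBasis_affineOpens.exists_subset_of_mem_open (show x ∈ (⊤ : X.Opens) from trivial) isOpen_univ
  -- lift locally
  obtain ⟨b, hb⟩ := modPowπ_app_surjective I (c + 1) L hcoh.1 hU
    (res _ le_top ((e c).inv.app ⊤ sc))
  refine ⟨U, b, hxU, ?_, ?_⟩
  · have h2 := congrArg (fun z => (e c).hom.app U z) hb
    have h3 : ∀ z : Γ(L, U), (e c).hom.app U ((Formal.modPowπ I (c + 1) L).app U z) =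
        ((Scheme.Modules.pullbackPushforwardAdjunction (tι J c)).unit.app L).app U z := by
      intro z
      rw [← he c]; rfl
    have h4 : (e c).hom.app U (res _ le_top ((e c).inv.app ⊤ sc)) =
        res ((Scheme.Modules.pushforward (tι J c)).obj (N J L c)) (le_top : U ≤ ⊤) sc := by
      rw [app_res]
      congr 1
      have h5 : (e c).inv ≫ (e c).hom = 𝟙 _ := (e c).inv_hom_id
      exact congr(($(h5).app ⊤) sc)
    exact ((h3 b).symm.trans h2).trans h4
  · have h3 : (Formal.modPowπ I (0 + 1) L).app U b =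
        (Formal.modPowπ I (0 + 1) L).app U (res L le_top σ) := by
      have h4 : ((Formal.completion I L).map (homOfLE (Nat.zero_le c)).op).app U
          (res (Formal.modPow I (c + 1) L) (le_top : U ≤ ⊤) ((e c).inv.app ⊤ sc)) =
            (Formal.modPowπ I (0 + 1) L).app U (res L le_top σ) := by
        refine (app_res (((Formal.completion I L).map (homOfLE (Nat.zero_le c)).op)) le_top _).trans ?_
        refine Eq.trans ?_ (app_res (Formal.modPowπ I (0 + 1) L) le_top σ).symm
        exact congrArg (res (Formal.modPow I (0 + 1) L) (le_top : U ≤ ⊤)) hσ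
      have h5 := cπ_map I L (Nat.zero_le c)
      have h6 : ((Formal.completion I L).map (homOfLE (Nat.zero_le c)).op).app U
          ((Formal.modPowπ I (c + 1) L).app U b) = (Formal.modPowπ I (0 + 1) L).app U b :=
        congr(($(h5).app U) b)
      refine h6.symm.trans (Eq.trans ?_ h4)
      exact congrArg (fun z => ((Formal.completion I L).map (homOfLE (Nat.zero_le c)).op).app U z) hb
    have h4 := congrArg (fun z => (e 0).hom.app U z) h3
    have h5 : ∀ z : Γ(L, U), (e 0).hom.app U ((Formal.modPowπ I (0 + 1) L).app U z) =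
        (can J L 0).map z := by
      intro z
      have : Formal.modPowπ I (0 + 1) L ≫ (e 0).hom = _ := he 0
      exact congr(($(this).app U) z)
    have h6 := ((h5 b).symm.trans h4).trans (h5 _)
    rw [(can J L 0).res] at h6
    exact h6

end Section

/-- A local section whose restriction to `V(J^(c+1))` generates, generates at the points of `V(J)`. -/
theorem mem_genLocus {Y Y' : Scheme.{u}} {G : Y' ⟶ Y} {L : Y.Modules} {L' : Y'.Modules}
    (hL : PicF.IsInvertible L) (F : Fam G L L') (σ : Γ(L, ⊤)) {U : Y.Opens}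
    (h : IsGen (res L' (G.preimage_mono (le_top : U ≤ ⊤)) (F.map σ))) (z : Y') (hz : G z ∈ U) :
    G z ∈ CohB1.genLocus L (homOf σ) := by
  obtain ⟨V, e, hV, he⟩ := (isInvertible_iff L).1 hL (G z)
  obtain ⟨a, ha⟩ := he.exists_eq (res L (le_top : V ≤ ⊤) σ)
  have h1 : sec (homOf σ) V = a • e := by rw [sec_homOf, ha]
  have h2 := genLocus_inf_eq (homOf σ) he h1
  have h3 : IsGen (res L' (G.preimage_mono (inf_le_right : U ⊓ V ≤ V)) (G.app V a • F.map e)) := by
    rw [← F.smul, ← ha, F.res, res_res]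
    have h4 := h.res (G.preimage_mono (inf_le_left : U ⊓ V ≤ U))
    rw [res_res] at h4
    exact h4
  rw [res_smul] at h3
  have h4 := ((F.gen he).res (G.preimage_mono (inf_le_right : U ⊓ V ≤ V))).isUnit_of_smul h3
  have h5 : G z ∈ Y.basicOpen a := by
    change z ∈ G ⁻¹ᵁ (Y.basicOpen a)
    rw [Scheme.preimage_basicOpen]
    have h6 : z ∈ Y'.basicOpen ((Y'.presheaf.map (homOfLE (G.preimage_mono
        (inf_le_right : U ⊓ V ≤ V))).op) (G.app V a)) := by
      have h7 : Y'.basicOpen ((Y'.presheaf.map (homOfLE (G.preimage_mono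
        (inf_le_right : U ⊓ V ≤ V))).op) (G.app V a)) = G ⁻¹ᵁ (U ⊓ V) :=
        Scheme.basicOpen_of_isUnit _ h4
      rw [h7]
      exact ⟨hz, hV⟩
    rw [Scheme.basicOpen_res] at h6
    exact h6.2
  rw [← h2] at h5
  exact h5.1

end K184.AlgPic
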