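import Mathlib.Algebra.Group.Subgroup.Basic
import Mathlib.Tactic

/-!
# Roots in complete filtered groups
-/

set_option autoImplicit false

namespace K184.Filt

variable {G : Type*} [CommGroup G] (K : ℕ → Subgroup G) (p : ℕ)

/-- Successive approximation. -/
theorem exists_root (hanti : Antitone K)
    (hstep : ∀ n, 2 ≤ n → ∀ a ∈ K n, ∃ b ∈ K (n - 1), a * (b ^ p)⁻¹ ∈ K (n + 1))
    (hcompl : ∀ B : ℕ → G, (∀ m, (B m)⁻¹ * B (m + 1) ∈ K m) → ∃ M, ∀ m, (B m)⁻¹ * M ∈ K m)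
    (hsep : ∀ a, (∀ n, a ∈ K n) → a = 1) (n : ℕ) (hn : 2 ≤ n) (a : G) (ha : a ∈ K n) :
    ∃ b ∈ K (n - 1), b ^ p = a := by
  choose b hb hb' using hstep
  -- the sequence `a_j ∈ K (n + j)`
  let A : ∀ j : ℕ, {x : G // x ∈ K (n + j)} := fun j =>
    Nat.rec (motive := fun j => {x : G // x ∈ K (n + j)}) ⟨a, ha⟩
      (fun j x => ⟨x.1 * (b (n + j) (by omega) x.1 x.2 ^ p)⁻¹, hb' (n + j) (by omega) x.1 x.2⟩) j
  let β : ℕ → G := fun j => b (n + j) (by omega) (A j).1 (A j).2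
  have hβ : ∀ j, β j ∈ K (n + j - 1) := fun j => hb (n + j) (by omega) (A j).1 (A j).2
  have hA : ∀ j, (A (j + 1)).1 = (A j).1 * (β j ^ p)⁻¹ := fun j => rfl
  let B : ℕ → G := fun m => ∏ j ∈ Finset.range m, β j
  have hB : ∀ m, B (m + 1) = B m * β m := fun m => Finset.prod_range_succ _ _
  have hB' : ∀ m, B m ^ p * (A m).1 = a := by
    intro m
    induction m with
    | zero => simp [B, A]
    | succ m ih =>
      rw [hB, hA, mul_pow]
      rw [← ih]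
      rw [mul_assoc, mul_comm (A m).1, ← mul_assoc (β m ^ p), mul_inv_cancel, one_mul]
  obtain ⟨M, hM⟩ := hcompl B (fun m => by
    rw [hB, inv_mul_cancel_left]
    exact hanti (by omega) (hβ m))
  have hBn : ∀ m, B m ∈ K (n - 1) := by
    intro m
    refine Subgroup.prod_mem _ fun j _ => ?_
    exact hanti (by omega) (hβ j)
  refine ⟨M, ?_, ?_⟩
  · have h1 := mul_mem (hBn (n - 1)) (hM (n - 1))
    rwa [mul_inv_cancel_left] at h1
  · rw [← mul_inv_eq_one]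
    apply hsep
    intro m
    have h1 : M ^ p * a⁻¹ = ((B m)⁻¹ * M) ^ p * (A m).1⁻¹ := by
      rw [← hB' m, mul_pow, inv_pow, mul_inv]
      ac_rfl
    rw [h1]
    exact mul_mem (pow_mem (hM m) p) (inv_mem (hanti (by omega) (A m).2))

/-- Iterated roots. -/
theorem exists_root_pow (hanti : Antitone K)
    (hstep : ∀ n, 2 ≤ n → ∀ a ∈ K n, ∃ b ∈ K (n - 1), a * (b ^ p)⁻¹ ∈ K (n + 1))
    (hcompl : ∀ B : ℕ → G, (∀ m, (B m)⁻¹ * B (m + 1) ∈ K m) → ∃ M, ∀ m, (B m)⁻¹ * M ∈ K m)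
    (hsep : ∀ a, (∀ n, a ∈ K n) → a = 1) (i : ℕ) (a : G) (ha : a ∈ K (i + 1)) :
    ∃ b ∈ K 1, b ^ (p ^ i) = a := by
  induction i generalizing a with
  | zero => exact ⟨a, ha, by simp⟩
  | succ i ih =>
    obtain ⟨b, hb, hba⟩ := exists_root K p hanti hstep hcompl hsep (i + 1 + 1) (by omega) a ha
    obtain ⟨c, hc, hcb⟩ := ih b hb
    exact ⟨c, hc, by rw [pow_succ, pow_mul, hcb, hba]⟩

end K184.Filt
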