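import Mathlib.AlgebraicGeometry.Morphisms.ClosedImmersion

/-!
# The ideal sheaf generated by a natural number
-/

set_option autoImplicit false
universe u

open CategoryTheory CategoryTheory.Limits AlgebraicGeometry Opposite TopologicalSpace

namespace K184.PId

/-- The ideal sheaf `q O_X`. -/
noncomputable def pId (X : Scheme.{u}) (q : ℕ) : X.IdealSheafData :=
  Scheme.IdealSheafData.ofIdealTop (Ideal.span {(q : Γ(X, ⊤))})

variable {X Y Z : Scheme.{u}}

theorem ideal_pId (X : Scheme.{u}) (q : ℕ) (U : X.affineOpens) :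
    (pId X q).ideal U = Ideal.span {(q : Γ(X, U.1))} := by
  rw [pId, Scheme.IdealSheafData.ofIdealTop_ideal, Ideal.map_span, Set.image_singleton, map_natCast]

theorem pId_mul (q r : ℕ) : pId X (q * r) = pId X q * pId X r := by
  apply Scheme.IdealSheafData.ext
  funext U
  rw [Scheme.IdealSheafData.ideal_mul, Pi.mul_apply, ideal_pId, ideal_pId, ideal_pId,
    Ideal.span_singleton_mul_span_singleton, Nat.cast_mul]

theorem pId_pow (q n : ℕ) : pId X (q ^ n) = pId X q ^ n := by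
  apply Scheme.IdealSheafData.ext
  funext U
  rw [Scheme.IdealSheafData.ideal_pow, Pi.pow_apply, ideal_pId, ideal_pId, Ideal.span_singleton_pow,
    Nat.cast_pow]

theorem natCast_eq_zero (q : ℕ) (h : (q : Γ(Z, ⊤)) = 0) (U : Z.Opens) : (q : Γ(Z, U)) = 0 := by
  have h1 := congrArg (Z.presheaf.map (homOfLE (le_top : U ≤ ⊤)).op).hom h
  rwa [map_natCast, map_zero] at h1

theorem le_ker (g : Z ⟶ X) (q : ℕ) (h : (q : Γ(Z, ⊤)) = 0) : pId X q ≤ g.ker := by
  refine Scheme.IdealSheafData.le_ofIdeals_iff.mpr fun U => ?_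
  rw [ideal_pId, Ideal.span_singleton_le_iff_mem, RingHom.mem_ker, map_natCast]
  exact natCast_eq_zero q h _

theorem eq_zero_of_ker (i : Z ⟶ X) (q : ℕ) (h : pId X q ≤ i.ker) : (q : Γ(Z, ⊤)) = 0 := by
  have h1 : ∀ U : X.affineOpens, (q : Γ(Z, i ⁻¹ᵁ U.1)) = 0 := by
    intro U
    have h2 := (h U).trans (Scheme.Hom.ideal_ker_le i U)
    rw [ideal_pId, Ideal.span_singleton_le_iff_mem, RingHom.mem_ker, map_natCast] at h2
    exact h2
  refine TopCat.Sheaf.eq_of_locally_eq' Z.sheaf (fun U : X.affineOpens => i ⁻¹ᵁ U.1) ⊤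
    (fun U => homOfLE le_top) ?_ _ _ ?_
  · rw [← Scheme.Hom.preimage_iSup, iSup_affineOpens_eq_top X]
    exact le_rfl
  · intro U
    refine (map_natCast (Z.presheaf.map (homOfLE (le_top : i ⁻¹ᵁ U.1 ≤ ⊤)).op).hom q).trans ?_
    rw [h1 U]
    exact (map_zero (Z.presheaf.map (homOfLE (le_top : i ⁻¹ᵁ U.1 ≤ ⊤)).op).hom).symm

theorem pId_eq_bot (q : ℕ) (h : (q : Γ(X, ⊤)) = 0) : pId X q = ⊥ := by
  apply Scheme.IdealSheafData.ext
  funext U
  rw [ideal_pId, natCast_eq_zero q h, Scheme.IdealSheafData.ideal_bot, Ideal.span_singleton_eq_bot.mpr rfl]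
  rfl

theorem mul_mem (q r : ℕ) (V : X.affineOpens) (a : Γ(X, V.1)) (ha : a ∈ (pId X r).ideal V) :
    (q : Γ(X, V.1)) * a ∈ (pId X (q * r)).ideal V := by
  rw [ideal_pId, Ideal.mem_span_singleton] at ha ⊢
  rw [Nat.cast_mul]
  exact mul_dvd_mul_left _ ha

theorem exists_mul (q r : ℕ) (V : X.affineOpens) (a : Γ(X, V.1)) (ha : a ∈ (pId X (q * r)).ideal V) :
    ∃ b ∈ (pId X r).ideal V, (q : Γ(X, V.1)) * b = a := by
  rw [ideal_pId, Ideal.mem_span_singleton, Nat.cast_mul] at ha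
  obtain ⟨c, hc⟩ := ha
  refine ⟨r * c, ?_, by rw [hc, mul_assoc]⟩
  rw [ideal_pId, Ideal.mem_span_singleton]
  exact dvd_mul_right _ _

theorem pId_le (q r : ℕ) (h : r ∣ q) : pId X q ≤ pId X r := by
  intro V
  rw [ideal_pId, ideal_pId, Ideal.span_singleton_le_span_singleton]
  exact Nat.cast_dvd_cast h

end K184.PId
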