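import Groth.Agent.PicGrp.K858.Thick
import Groth.Agent.PerfC.ClosedPush
import Groth.Agent.CohqB.ToSheafExact

/-!
# `q`-th roots of invertible modules which are trivial on a thickening

`Y` a scheme with `H²(Y, F) = 0` for all abelian sheaves, `I ≤ I'` ideal sheaves with `I'² = 0` and `I = q I'`.
Every `c ∈ Pic Y` which is trivial on `V(I)` is `b ^ q` with `b` trivial on `V(I')`.
-/

set_option autoImplicit false
universe u

open CategoryTheory CategoryTheory.Limits AlgebraicGeometry Opposite TopologicalSpace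

namespace K184.PowStep

open K858.UnitsCls K858.UnitsHom K858.Basic K858.Thick
open Groth.Agent.CohqB Groth.Agent.PerfA.IdealModule Groth.Agent.Fga.SqZero Groth.Agent.Fga.Units
open Groth.Agent.CohqB.ToSheafExact

variable {Y : Scheme.{u}}

theorem nsmul_app {M N : Y.Modules} (q : ℕ) (φ : M ⟶ N) (U : Y.Opens) (s : Γ(M, U)) :
    (q • φ).app U s = q • φ.app U s := by
  let h : (M ⟶ N) →+ Γ(N, U) := AddMonoidHom.mk' (fun φ => φ.app U s) (fun a b => rfl)
  exact map_nsmul h q φ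

theorem app_eq_zero_of_locally (K : Y.IdealSheafData) {U : Y.Opens} (s : Γ(Y, U))
    (h : ∀ V : Y.affineOpens, ∀ hV : V.1 ≤ U, ores hV s ∈ K.ideal V) :
    K.subschemeι.app U s = 0 := by
  apply eq_of_locally
  intro x hx
  obtain ⟨V, hxV, hVU⟩ := exists_affine (X := Y) (U := U) (x := K.subschemeι x) hx
  refine ⟨K.subschemeι ⁻¹ᵁ V.1, K.subschemeι.preimage_mono hVU, hxV, ?_⟩
  rw [← app_ores, map_zero]
  have h1 := h V hVU
  rw [← K.ker_subschemeι_app, RingHom.mem_ker] at h1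
  exact h1

/-- Multiplication by `q` maps `I'` to `I`. -/
theorem mulq_zero (I I' : Y.IdealSheafData) (q : ℕ)
    (hq : ∀ V : Y.affineOpens, ∀ a ∈ I'.ideal V, (q : Γ(Y, V.1)) * a ∈ I.ideal V) :
    (q • ClSub.idealModι I') ≫ ClSub.toSubscheme I = 0 := by
  apply Scheme.Modules.hom_ext
  intro U
  ext s
  change I.subschemeι.app U ((q • ClSub.idealModι I').app U s) = 0
  rw [nsmul_app]
  apply app_eq_zero_of_locally
  intro V hV
  have h1 : ores hV (q • (ClSub.idealModι I').app U s) =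
      (q : Γ(Y, V.1)) * val I' (Groth.Agent.CohqB.QC2.res _ hV s) := by
    rw [val_res, ← nsmul_eq_mul]
    exact map_nsmul (ores hV) q _
  rw [h1]
  exact hq V _ (val_mem I' V _)

/-- Multiplication by `q`, from `I'` to `I`. -/
noncomputable def mulq (I I' : Y.IdealSheafData) (q : ℕ)
    (hq : ∀ V : Y.affineOpens, ∀ a ∈ I'.ideal V, (q : Γ(Y, V.1)) * a ∈ I.ideal V) :
    ClSub.idealMod I' ⟶ ClSub.idealMod I :=
  kernel.lift _ (q • ClSub.idealModι I') (mulq_zero I I' q hq)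

theorem mulq_ι (I I' : Y.IdealSheafData) (q : ℕ)
    (hq : ∀ V : Y.affineOpens, ∀ a ∈ I'.ideal V, (q : Γ(Y, V.1)) * a ∈ I.ideal V) :
    mulq I I' q hq ≫ ClSub.idealModι I = q • ClSub.idealModι I' := kernel.lift_ι _ _ _

theorem val_mulq (I I' : Y.IdealSheafData) (q : ℕ)
    (hq : ∀ V : Y.affineOpens, ∀ a ∈ I'.ideal V, (q : Γ(Y, V.1)) * a ∈ I.ideal V) {U : Y.Opens}
    (s : Γ(ClSub.idealMod I', U)) : val I ((mulq I I' q hq).app U s) = (q : Γ(Y, U)) * val I' s := by
  have h1 : (mulq I I' q hq ≫ ClSub.idealModι I).app U s = (q • ClSub.idealModι I').app U s := by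
    rw [mulq_ι]
  rw [nsmul_app] at h1
  rw [← nsmul_eq_mul]
  exact h1

theorem epi_mulq (I I' : Y.IdealSheafData) (q : ℕ)
    (hq : ∀ V : Y.affineOpens, ∀ a ∈ I'.ideal V, (q : Γ(Y, V.1)) * a ∈ I.ideal V)
    (hq' : ∀ V : Y.affineOpens, ∀ a ∈ I.ideal V, ∃ b ∈ I'.ideal V, (q : Γ(Y, V.1)) * b = a) :
    Epi (mulq I I' q hq) := by
  apply Groth.Agent.PerfC.ClosedPush.epi_of_locally_surjective
  intro U s x hx
  obtain ⟨V, hxV, hVU⟩ := exists_affine hx
  obtain ⟨b, hb, hb'⟩ := hq' V _ (val_mem I V (Groth.Agent.CohqB.QC2.res _ hVU s))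
  obtain ⟨t, ht⟩ := exists_val_eq I' V hb
  refine ⟨V.1, hVU, t, hxV, ?_⟩
  apply val_injective I V.1
  rw [val_mulq, ht, hb']
  rfl

/-- The inclusion. -/
noncomputable def incl (I I' : Y.IdealSheafData) (h : I ≤ I') : ClSub.idealMod I ⟶ ClSub.idealMod I' :=
  kernel.lift _ (ClSub.idealModι I) (by
    apply Scheme.Modules.hom_ext
    intro U
    ext s
    change I'.subschemeι.app U ((ClSub.idealModι I).app U s) = 0
    apply app_eq_zero_of_locally
    intro V hV
    have h1 : ores hV ((ClSub.idealModι I).app U s) = val I (Groth.Agent.CohqB.QC2.res _ hV s) := by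
      rw [val_res]
      rfl
    rw [h1]
    exact h V (val_mem I V _))

theorem incl_ι (I I' : Y.IdealSheafData) (h : I ≤ I') :
    incl I I' h ≫ ClSub.idealModι I' = ClSub.idealModι I := kernel.lift_ι _ _ _

theorem val_incl (I I' : Y.IdealSheafData) (h : I ≤ I') {U : Y.Opens}
    (s : Γ(ClSub.idealMod I, U)) : val I' ((incl I I' h).app U s) = val I s := by
  have h1 : (incl I I' h ≫ ClSub.idealModι I').app U s = (ClSub.idealModι I).app U s := by
    rw [incl_ι]
  exact h1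

theorem mulq_incl (I I' : Y.IdealSheafData) (h : I ≤ I') (q : ℕ)
    (hq : ∀ V : Y.affineOpens, ∀ a ∈ I'.ideal V, (q : Γ(Y, V.1)) * a ∈ I.ideal V) :
    mulq I I' q hq ≫ incl I I' h = q • 𝟙 _ := by
  rw [← cancel_mono (ClSub.idealModι I'), Category.assoc, incl_ι, mulq_ι, Preadditive.nsmul_comp,
    Category.id_comp]

theorem expMap_incl (I I' : Y.IdealSheafData) (h : I ≤ I') (hI : I ^ 2 = ⊥) (hI' : I' ^ 2 = ⊥) :
    (toAbF Y).map (incl I I' h) ≫ expMap hI' = expMap hI := by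
  ext U s
  apply Groth.Agent.Fga.Units.val_injective
  apply _root_.Units.ext
  change 1 + val I' ((incl I I' h).app U.unop s) = 1 + val I (V := U.unop) s
  rw [val_incl]

theorem map_incl_mulq (I I' : Y.IdealSheafData) (h : I ≤ I') (q : ℕ)
    (hq : ∀ V : Y.affineOpens, ∀ a ∈ I'.ideal V, (q : Γ(Y, V.1)) * a ∈ I.ideal V)
    (ξ' : Sheaf.H.{u} ((toAbF Y).obj (ClSub.idealMod I')) 1) :
    Sheaf.H.map ((toAbF Y).map (incl I I' h)) 1 (Sheaf.H.map ((toAbF Y).map (mulq I I' q hq)) 1 ξ') = q • ξ' := by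
  rw [← Sheaf.H.map_comp_apply, ← Functor.map_comp, mulq_incl]
  have h3 : (toAbF Y).map (q • 𝟙 (ClSub.idealMod I')) = q • 𝟙 _ := by
    rw [Functor.map_nsmul, CategoryTheory.Functor.map_id]
  rw [h3]
  let h : ((toAbF Y).obj (ClSub.idealMod I') ⟶ (toAbF Y).obj (ClSub.idealMod I')) →+
      Sheaf.H.{u} ((toAbF Y).obj (ClSub.idealMod I')) 1 :=
    AddMonoidHom.mk' (fun φ => Sheaf.H.map φ 1 ξ') (fun a b => Sheaf.H.map_add_apply a b ξ')
  refine (map_nsmul h q (𝟙 _)).trans ?_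
  exact congrArg (q • ·) (Sheaf.H.map_id_apply ξ')

/-- The root extraction step. -/
theorem exists_root (I I' : Y.IdealSheafData) (h : I ≤ I') (hI' : I' ^ 2 = ⊥) (q : ℕ)
    (hq : ∀ V : Y.affineOpens, ∀ a ∈ I'.ideal V, (q : Γ(Y, V.1)) * a ∈ I.ideal V)
    (hq' : ∀ V : Y.affineOpens, ∀ a ∈ I.ideal V, ∃ b ∈ I'.ideal V, (q : Γ(Y, V.1)) * b = a)
    (hH : ∀ F : CohTop.Ab Y.toTopCat, Subsingleton (CohTop.H F 2))
    (c : Pic Y) (hc : pull I.subschemeι c = 1) :
    ∃ b : Pic Y, pull I'.subschemeι b = 1 ∧ b ^ q = c := by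
  have hI : I ^ 2 = ⊥ := by
    apply le_antisymm _ bot_le
    rw [← hI']
    exact pow_le_pow_left' h 2
  have hgI : Good I.subschemeι := good_of_isClosedImmersion _
  have hgI' : Good I'.subschemeι := good_of_isClosedImmersion _
  -- the class
  have h1 : Sheaf.H.map (seq I hI).g 1 (picEquivUnits Y (Additive.ofMul c)) = 0 := by
    have h2 := map_comap_pic I.subschemeι hgI c
    refine h2.trans ?_
    rw [hc]
    exact map_zero _
  obtain ⟨ξ, hξ⟩ := HLes.exact₂ (seq_shortExact I hI) 1 _ h1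
  -- lift `ξ`
  have hepi := epi_mulq I I' q hq hq'
  let S₀ : ShortComplex Y.Modules :=
    ShortComplex.mk (kernel.ι (mulq I I' q hq)) (mulq I I' q hq) (kernel.condition _)
  have hS₀ : S₀.ShortExact :=
    { exact := ShortComplex.exact_kernel _
      mono_f := inferInstanceAs (Mono (kernel.ι _))
      epi_g := hepi }
  have hS := shortExact_toAb hS₀
  obtain ⟨ξ', hξ'⟩ := HLes.exact₃ hS 1 ξ ((hH _).elim _ _)
  have hξ'' : Sheaf.H.map ((toAbF Y).map (incl I I' h)) 1 ξ = q • ξ' := by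
    rw [← hξ']
    exact map_incl_mulq I I' h q hq ξ'
  let b : Pic Y := Additive.toMul ((picEquivUnits Y).symm (Sheaf.H.map (expMap hI') 1 ξ'))
  have hb : picEquivUnits Y (Additive.ofMul b) = Sheaf.H.map (expMap hI') 1 ξ' :=
    (picEquivUnits Y).apply_symm_apply _
  refine ⟨b, ?_, ?_⟩
  · have h2 := map_comap_pic I'.subschemeι hgI' b
    rw [hb] at h2
    have h3 : Sheaf.H.map (UnitsSh.comap I'.subschemeι) 1 (Sheaf.H.map (expMap hI') 1 ξ') = 0 :=
      HLes.map_g_map_f (S := seq I' hI') 1 ξ'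
    have h4 : picEquivZ I'.subschemeι hgI' (Additive.ofMul (pull I'.subschemeι b)) = 0 := h2.symm.trans h3
    rw [EmbeddingLike.map_eq_zero_iff] at h4
    exact h4
  · have h2 : picEquivUnits Y (Additive.ofMul (b ^ q)) = picEquivUnits Y (Additive.ofMul c) := by
      rw [ofMul_pow, map_nsmul, hb, ← hξ]
      change _ = Sheaf.H.map (expMap hI) 1 ξ
      rw [← expMap_incl I I' h hI hI', Sheaf.H.map_comp_apply]
      refine Eq.trans ?_ (congrArg (Sheaf.H.map (expMap hI') 1) hξ'').symm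
      exact (map_nsmul (Sheaf.H.map (expMap hI') 1) q ξ').symm
    exact (picEquivUnits Y).injective h2

end K184.PowStep
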