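import Groth.Agent.PicThk.K184.AlgPic

/-!
# An invertible module with trivial restrictions to all the thickenings of the closed fibre is trivial
-/

set_option autoImplicit false
universe u
open CategoryTheory CategoryTheory.Limits AlgebraicGeometry Opposite TopologicalSpace

namespace K184.AlgPic

open Groth.Agent.FormalB.ModPowAff Groth.Agent.Fdesc.LocGen Groth.Agent.Sga2.LefThick K695.ClFib
  Groth.Agent.Picfga.LineFam Groth.Agent.Pic13.H126.ThickLift

/-- If the pullback of a section `b` of `L` over `U` generates, then `b` generates near the points of the image. -/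
theorem exists_isGen_res {Y Y' : Scheme.{u}} {G : Y' ⟶ Y} {L : Y.Modules} {L' : Y'.Modules}
    (hL : PicF.IsInvertible L) (F : Fam G L L') {U : Y.Opens} (b : Γ(L, U)) (h : IsGen (F.map b)) (z : Y')
    (hz : G z ∈ U) : ∃ (W : Y.Opens) (hW : W ≤ U), G z ∈ W ∧ IsGen (res L hW b) := by
  obtain ⟨V, e, hV, he⟩ := (isInvertible_iff L).1 hL (G z)
  have he' := he.res (inf_le_right : U ⊓ V ≤ V)
  obtain ⟨a, ha⟩ := he'.exists_eq (res L (inf_le_left : U ⊓ V ≤ U) b)
  have h3 : IsGen (G.app (U ⊓ V) a • F.map (res L (inf_le_right : U ⊓ V ≤ V) e)) := by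
    rw [← F.smul, ← ha, F.res]
    exact h.res _
  have h4 : IsUnit (G.app (U ⊓ V) a) := (F.gen he').isUnit_of_smul h3
  have h5 : G z ∈ Y.basicOpen a := by
    change z ∈ G ⁻¹ᵁ (Y.basicOpen a)
    rw [Scheme.preimage_basicOpen, Scheme.basicOpen_of_isUnit _ h4]
    exact ⟨hz, hV⟩
  refine ⟨Y.basicOpen a, (Y.basicOpen_le a).trans inf_le_left, h5, ?_⟩
  have h6 : res L ((Y.basicOpen_le a).trans inf_le_left) b =
      res L (Y.basicOpen_le a) (res L (inf_le_left : U ⊓ V ≤ U) b) := (res_res _ _ _ _).symm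
  rw [h6, ha, res_smul]
  have h7 : IsUnit (ores (Y.basicOpen_le a) a) := Y.toRingedSpace.isUnit_res_basicOpen a
  exact IsGen.unit_smul (he'.res _) h7

/-- Levelwise trivial invertible modules are trivial. -/
theorem nonempty_iso_of_forall (A : Type u) [CommRing A] [IsLocalRing A] [IsNoetherianRing A]
    {X : Scheme.{u}} (f : X ⟶ Spec (CommRingCat.of A)) [IsProper f] {L : X.Modules} (hL : PicF.IsInvertible L)
    (h : ∀ n, Nonempty ((Scheme.Modules.pullback (tι (ideal₀ A f) n)).obj L ≅ Coh.structureModule _)) :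
    Nonempty (L ≅ Coh.structureModule X) := by
  let _ : X.Over (Spec (CommRingCat.of A)) := ⟨f⟩
  have _ : IsProper (X ↘ Spec (CommRingCat.of A)) := inferInstanceAs (IsProper f)
  let J := ideal₀ A f
  have hJ : ∀ U : X.affineOpens, J.ideal U = (IsLocalRing.maximalIdeal A).map (toΓ A X U.1) :=
    fun U => ideal_ideal₀ A f U
  have hk : (tι J 0).ker = (ι₀ A f).ker := by
    rw [Scheme.IdealSheafData.ker_subschemeι, zero_add, pow_one]
  obtain ⟨c, hc⟩ := exists_section_of_level (IsLocalRing.maximalIdeal A) J hJ hL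
  obtain ⟨i⟩ := h c
  have hs : IsGen (sec i.inv ⊤) := (isIso_iff_isGen i.inv).1 inferInstance
  obtain ⟨σ, hσ⟩ := hc (sec i.inv ⊤)
  have htop : CohB1.genLocus L (homOf σ) = ⊤ := by
    refine eq_top_of_closedFibre A f fun z => ?_
    have hz0 : tι J 0 ((IsClosedImmersion.lift (tι J 0) (ι₀ A f) hk.le) z) = ι₀ A f z := by
      rw [← Scheme.Hom.comp_apply, IsClosedImmersion.lift_fac]
    obtain ⟨U, b, hxU, hb1, hb2⟩ := hσ (ι₀ A f z)
    obtain ⟨zc, hzc⟩ : ∃ zc, tι J c zc = ι₀ A f z := by
      have h1 : ι₀ A f z ∈ Set.range (tι J 0) := ⟨_, hz0⟩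
      rw [Scheme.IdealSheafData.range_subschemeι, Scheme.IdealSheafData.support_pow_succ,
        ← Scheme.IdealSheafData.support_pow_succ J c, ← Scheme.IdealSheafData.range_subschemeι] at h1
      exact h1
    have hgen : IsGen ((can J L c).map b) := by
      rw [hb1]
      exact hs.res _
    obtain ⟨W, hW, hxW, hbW⟩ := exists_isGen_res hL (can J L c) b hgen zc (by rw [hzc]; exact hxU)
    rw [hzc] at hxW
    have h2 := (can J L 0).gen hbW
    have h3 : (can J L 0).map (res L hW b) =
        res _ ((tι J 0).preimage_mono (le_top : W ≤ ⊤)) ((can J L 0).map σ) := by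
      rw [(can J L 0).res, hb2, res_res]
    rw [h3] at h2
    have h4 := mem_genLocus hL (can J L 0) σ h2 ((IsClosedImmersion.lift (tι J 0) (ι₀ A f) hk.le) z)
      (by rw [hz0]; exact hxW)
    rwa [hz0] at h4
  have hiso : IsIso (homOf σ) := by
    rw [isIso_iff_isGen, ← le_genLocus_iff, htop]
  exact ⟨(asIso (homOf σ)).symm⟩

end K184.AlgPic
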